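import Groth.Agent.PCMor.FppfSource
import Groth.Agent.RelPC.LBC
import Groth.Agent.DRingKP.Derive

/-!
Relative pseudo-coherence of complexes: base change along a pseudo-coherent map and descent along a
finite faithfully flat map.
-/

set_option autoImplicit false
set_option linter.style.haveILetI false
set_option backward.isDefEq.respectTransparency false
universe u

namespace Groth.Agent.RelPCFppf

open CategoryTheory Limits DerivedCategory
open Groth.Agent.DRingKP Groth.Agent.RelPC Groth.Agent.PCMor
open scoped TensorProduct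

attribute [local instance] HasDerivedCategory.standard

variable {A B C : Type u} [CommRing A] [CommRing B] [CommRing C] [Algebra A B] [Algebra B C]

/-- transport along an isomorphism -/
theorem rel_of_iso {m : ℤ} {K K' : Dual.D B} (e : K ≅ K') (h : DerCA.IsRelPseudoCoherent A B m K) :
    DerCA.IsRelPseudoCoherent A B m K' := by
  obtain ⟨n, α, hα, hp⟩ := h
  exact ⟨n, α, hα, pc_of_iso ((DRing.restrictD (α : MvPolynomial (Fin n) A →+* B)).mapIso e) hp⟩

theorem finiteType_of_rel {m : ℤ} {K : Dual.D B} (h : DerCA.IsRelPseudoCoherent A B m K) :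
    Algebra.FiniteType A B := by
  obtain ⟨n, α, hα, -⟩ := h
  exact Algebra.FiniteType.of_surjective α hα

variable [Algebra A C] [IsScalarTower A B C]

/-- a complex with projective terms, bounded above, base changed along a pseudo-coherent map -/
theorem rel_bc (hC : PC (algebraMap B C)) (L : DRing.Cx B) {b : ℤ} (hb : DRing.VanishesAbove L b)
    (hL : ∀ i, CategoryTheory.Projective (L.X i)) (m : ℤ)
    (h : DerCA.IsRelPseudoCoherent A B m (DRing.toD L)) :
    DerCA.IsRelPseudoCoherent A C m (DRing.toD ((bc (algebraMap B C)).obj L)) := by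
  haveI := finiteType_of_rel h
  haveI : Algebra.FiniteType B C := RingHom.finiteType_algebraMap.1 hC.finiteType
  haveI : DRing.HasLBaseChange (algebraMap B C) := hasLBaseChange _
  haveI := isKProjective_of_vanishesAbove hb hL
  obtain ⟨k, β, hβ⟩ := Algebra.FiniteType.iff_quotient_mvPolynomial''.1 (inferInstance : Algebra.FiniteType B C)
  have hB : DerCA.IsRelPseudoCoherentModuleAll B C C :=
    (relAll_iff β hβ _).2 (hC.pcHom (φ := β.toRingHom) hβ (RingHom.ext β.commutes))
  exact rel_of_iso (lBaseChangeIso (algebraMap B C) L) (rel_lbc hB (DRing.toD L) m h)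

/-- restriction along a finite map -/
theorem rel_restrict_finite [Module.Finite B C] [Algebra.FiniteType A B] {m : ℤ} (K : Dual.D C)
    (h : DerCA.IsRelPseudoCoherent A C m K) :
    DerCA.IsRelPseudoCoherent A B m ((DRing.restrictD (algebraMap B C)).obj K) := by
  classical
  obtain ⟨n, α, hα⟩ := Algebra.FiniteType.iff_quotient_mvPolynomial''.1 (inferInstance : Algebra.FiniteType A B)
  obtain ⟨k, c, hc⟩ := Module.Finite.exists_fin (R := B) (M := C)
  let f : MvPolynomial (Fin n) A →+* C := (algebraMap B C).comp α.toRingHom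
  have hf : f.Finite := RingHom.Finite.comp (RingHom.finite_algebraMap.2 inferInstance)
    (RingHom.Finite.of_surjective _ hα)
  have hint : ∀ j, f.IsIntegralElem (c j) := fun j => hf.to_isIntegral (c j)
  let ψ : MvPolynomial (Fin k) (MvPolynomial (Fin n) A) →ₐ[A] C :=
    { MvPolynomial.eval₂Hom f c with
      commutes' := fun r => by
        show MvPolynomial.eval₂Hom f c (algebraMap A _ r) = _
        rw [MvPolynomial.algebraMap_apply, MvPolynomial.eval₂Hom_C]
        show algebraMap B C (α (algebraMap A _ r)) = _
        rw [AlgHom.commutes, ← IsScalarTower.algebraMap_apply] }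
  have hψ : Function.Surjective ψ := by
    intro x
    obtain ⟨a, ha⟩ := (Submodule.mem_span_range_iff_exists_fun B).1 (hc.ge (Submodule.mem_top (x := x)))
    choose p hp using fun i => hα (a i)
    refine ⟨∑ i, MvPolynomial.C (p i) * MvPolynomial.X i, ?_⟩
    show MvPolynomial.eval₂Hom f c _ = x
    rw [map_sum, ← ha]
    refine Finset.sum_congr rfl fun i _ => ?_
    rw [map_mul, MvPolynomial.eval₂Hom_C, MvPolynomial.eval₂Hom_X', Algebra.smul_def, ← hp i]
    rfl
  refine (rel_iff α hα m _).2 ?_
  exact (RelPC.pc_comp_iff α.toRingHom (algebraMap B C) m K).1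
    ((pc_eval₂Hom_iff f c hint m K).1 ((rel_iff_iter ψ hψ m K).1 h))

/-- the retraction on base changes -/
noncomputable def retractHom (r : C →ₗ[B] B) (M : ModuleCat.{u} B) :
    (ModuleCat.restrictScalars.{u} (algebraMap B C)).obj
      ((ModuleCat.extendScalars.{u, u, u} (algebraMap B C)).obj M) ⟶ M :=
  let e := TensorProduct.congr (selfEquiv B C) (LinearEquiv.refl B M)
  let v : (C ⊗[B] M) →ₗ[B] M := TensorProduct.lid B M ∘ₗ LinearMap.rTensor M r
  ModuleCat.ofHom (X := (ModuleCat.restrictScalars.{u} (algebraMap B C)).obj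
      ((ModuleCat.extendScalars.{u, u, u} (algebraMap B C)).obj M))
    { toFun := fun x => v (e x)
      map_add' := fun x y => (congrArg v (map_add e x y)).trans (map_add v _ _)
      map_smul' := fun b x => by
        have h1 : algebraMap B C b • (show (ModuleCat.extendScalars.{u, u, u} (algebraMap B C)).obj M from x) =
            (show (ModuleCat.extendScalars.{u, u, u} (algebraMap B C)).obj M from
              b • (show ((ModuleCat.restrictScalars.{u} (algebraMap B C)).obj (ModuleCat.of C C)) ⊗[B] M from x)) :=
          bc_smul_eq (algebraMap B C) M b x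
        exact ((congrArg (fun z => v (e z)) h1).trans ((congrArg v (map_smul e b _)).trans (map_smul v b _))) }

lemma retractHom_tmul (r : C →ₗ[B] B) (M : ModuleCat.{u} B) (c : C) (x : M) :
    (retractHom r M).hom
      ((show (ModuleCat.restrictScalars.{u} (algebraMap B C)).obj (ModuleCat.of C C) from c) ⊗ₜ[B] x) = r c • x := by
  rfl

lemma retractHom_naturality (r : C →ₗ[B] B) {M N : ModuleCat.{u} B} (f : M ⟶ N) :
    (ModuleCat.restrictScalars.{u} (algebraMap B C)).map
        ((ModuleCat.extendScalars.{u, u, u} (algebraMap B C)).map f) ≫ retractHom r N = retractHom r M ≫ f := by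
  refine ModuleCat.hom_ext (LinearMap.ext fun z => ?_)
  induction z using TensorProduct.induction_on with
  | zero => exact (map_zero _).trans (map_zero _).symm
  | tmul c x => exact (retractHom_tmul r N c (f.hom x)).trans (map_smul f.hom (r c) x).symm
  | add x y hx hy => exact (map_add _ x y).trans ((congrArg₂ (· + ·) hx hy).trans (map_add _ x y).symm)

/-- a retract of a pseudo-coherent object -/
theorem pc_of_retract {m : ℤ} {P : Type u} [CommRing P] {X Y : DRing.Cx P} (s : X ⟶ Y) (r : Y ⟶ X)
    (h : s ≫ r = 𝟙 X) (hY : DRing.IsPseudoCoherent P m (DRing.toD Y)) :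
    DRing.IsPseudoCoherent P m (DRing.toD X) := by
  haveI : Mono s := ⟨fun a b hab => by simpa [h] using congrArg (· ≫ r) hab⟩
  let S : ShortComplex (DRing.Cx P) := ShortComplex.mk s (cokernel.π s) (cokernel.condition s)
  let sp : S.Splitting :=
    ShortComplex.Splitting.ofExactOfRetraction S (ShortComplex.exact_cokernel s) r h (inferInstanceAs (Epi (cokernel.π s)))
  let Q : DRing.Cx P ⥤ Dual.D P := DerivedCategory.Q
  haveI := Limits.preservesBinaryBiproducts_of_preservesBiproducts Q
  exact (pc_biprod m _ _ (pc_of_iso (Q.mapIso sp.isoBinaryBiproduct ≪≫ Q.mapBiprod _ _) hY)).1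

/-- descent along a finite map with a linear retraction -/
theorem rel_of_finite_retract [Module.Finite B C] [Algebra.FiniteType A B] (r : C →ₗ[B] B) (hr : r 1 = 1)
    (L : DRing.Cx B) (m : ℤ) (h : DerCA.IsRelPseudoCoherent A C m (DRing.toD ((bc (algebraMap B C)).obj L))) :
    DerCA.IsRelPseudoCoherent A B m (DRing.toD L) := by
  let R := ModuleCat.restrictScalars.{u} (algebraMap B C)
  have h1 : DerCA.IsRelPseudoCoherent A B m
      (DRing.toD ((R.mapHomologicalComplex (ComplexShape.up ℤ)).obj ((bc (algebraMap B C)).obj L))) :=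
    rel_of_iso (R.mapDerivedCategoryFactors.app _) (rel_restrict_finite _ h)
  let η := (ModuleCat.extendRestrictScalarsAdj.{u} (algebraMap B C)).unit
  let s : L ⟶ (R.mapHomologicalComplex (ComplexShape.up ℤ)).obj ((bc (algebraMap B C)).obj L) :=
    { f := fun i => η.app (L.X i)
      comm' := fun i j _ => (η.naturality (L.d i j)).symm }
  let ρ : (R.mapHomologicalComplex (ComplexShape.up ℤ)).obj ((bc (algebraMap B C)).obj L) ⟶ L :=
    { f := fun i => retractHom r (L.X i)
      comm' := fun i j _ => (retractHom_naturality r (L.d i j)).symm }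
  have hsρ : s ≫ ρ = 𝟙 L := HomologicalComplex.hom_ext _ _ fun i =>
    ModuleCat.hom_ext (LinearMap.ext fun x => (retractHom_tmul r (L.X i) 1 x).trans (by rw [hr]; exact one_smul B x))
  obtain ⟨n, α, hα, hp⟩ := h1
  refine ⟨n, α, hα, ?_⟩
  let F := ModuleCat.restrictScalars.{u} (α : MvPolynomial (Fin n) A →+* B)
  have hp' := pc_of_iso (F.mapDerivedCategoryFactors.app _) hp
  refine pc_of_iso (F.mapDerivedCategoryFactors.app L).symm
    (pc_of_retract ((F.mapHomologicalComplex (ComplexShape.up ℤ)).map s)
      ((F.mapHomologicalComplex (ComplexShape.up ℤ)).map ρ) ?_ hp')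
  rw [← CategoryTheory.Functor.map_comp, hsρ, CategoryTheory.Functor.map_id]

end Groth.Agent.RelPCFppf
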