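import Groth.Agent.RelPCFppf.Ring
import Groth.Agent.RelPCS.Descend
import Groth.Agent.RelPCS.FlatFP
import Groth.Agent.RelPCLpull.Main

/-!
Relative pseudo-coherence is fppf local on the source.
-/

set_option backward.isDefEq.respectTransparency false
set_option backward.isDefEq.respectTransparency.types false
set_option linter.style.haveILetI false
set_option autoImplicit false

universe u

open CategoryTheory Limits AlgebraicGeometry Opposite TopologicalSpace Pretriangulated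

attribute [local instance] HasDerivedCategory.standard

namespace Groth.Agent.RelPCFppf

open Groth.Agent.DQCoh Groth.Agent.RelPCS

variable {X S : Scheme.{u}}

/-- affine pieces surjecting -/
theorem exists_piece_at {X' X : Scheme.{u}} (a : X' ⟶ X) [Flat a]
    [LocallyOfFinitePresentation a] {O : X.Opens} {x : X} (hx : x ∈ O) (hxa : ∃ y, a y = x) :
    ∃ (U : X.Opens) (W : X'.Opens) (e : W ≤ a ⁻¹ᵁ U), IsAffineOpen U ∧ IsAffineOpen W ∧ x ∈ U ∧ U ≤ O ∧
      (a.appLE U W e).hom.FaithfullyFlat ∧ (a.appLE U W e).hom.FinitePresentation := by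
  obtain ⟨U, hU, hxU, hUO⟩ := exists_isAffineOpen_mem_and_subset hx
  obtain ⟨x', rfl⟩ := hxa
  obtain ⟨W, hW, hxW, hWU⟩ := exists_isAffineOpen_mem_and_subset (show x' ∈ a ⁻¹ᵁ U from hxU)
  have hopen : IsOpen (a '' (W : Set X')) := a.isOpenMap _ W.isOpen
  obtain ⟨b, hb, hxb⟩ := hU.exists_basicOpen_le (V := ⟨a '' (W : Set X'), hopen⟩) ⟨a x', ⟨x', hxW, rfl⟩⟩ hxU
  let W' := X'.basicOpen (a.appLE U W hWU b)
  have hW' : W' = W ⊓ a ⁻¹ᵁ X.basicOpen b := Scheme.basicOpen_appLE a W U hWU b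
  have e : W' ≤ a ⁻¹ᵁ X.basicOpen b := hW'.le.trans inf_le_right
  have hUb := hU.basicOpen b
  have hWb : IsAffineOpen W' := hW.basicOpen _
  refine ⟨X.basicOpen b, W', e, hUb, hWb, hxb, (X.basicOpen_le b).trans hUO,
    RingHom.FaithfullyFlat.iff_flat_and_comap_surjective.2 ⟨a.flat_appLE hUb hWb e, fun q => ?_⟩,
    a.finitePresentation_appLE hUb hWb e⟩
  have hmem : hUb.fromSpec q ∈ X.basicOpen b := hUb.range_fromSpec.le ⟨q, rfl⟩
  obtain ⟨w, hwW, hw⟩ := hb hmem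
  have hw' : w ∈ W' := hW'.ge ⟨hwW, (show a w ∈ X.basicOpen b by rw [hw]; exact hmem)⟩
  obtain ⟨r, hr⟩ := hWb.range_fromSpec.ge hw'
  refine ⟨r, hUb.fromSpec.isOpenEmbedding.injective ?_⟩
  show hUb.fromSpec (Spec.map (a.appLE (X.basicOpen b) W' e) r) = _
  rw [← Scheme.Hom.comp_apply, IsAffineOpen.SpecMap_appLE_fromSpec a hUb hWb e, Scheme.Hom.comp_apply, hr, hw]

/-- the chart test through the module of sections -/
theorem qpc_tilde_iff {A P : Type u} [CommRing A] [CommRing P] {j : Spec (CommRingCat.of A) ⟶ X} [IsOpenImmersion j]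
    {E : DCoh.D X} {M : Dual.D A} (e : (RD j).obj E ≅ (DCoh.tildeD (CommRingCat.of A)).obj M)
    {φ : P →+* A} (hφ : Function.Surjective φ) (m : ℤ) :
    QPC m E j φ ↔ DRing.IsPseudoCoherent P m ((DRing.restrictD φ).obj M) := by
  haveI := closedImm_sp hφ
  have e' : (PD (sp φ)).obj ((RD j).obj E) ≅ (DCoh.tildeD (CommRingCat.of P)).obj ((DRing.restrictD φ).obj M) :=
    (PD (sp φ)).mapIso e ≪≫ (pdTildeIso φ).app M
  exact ⟨fun h => (pseudoCoherent_tilde_iff _ m).1 (pc_of_iso e' h.2),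
    fun h => ⟨hφ, pc_of_iso e'.symm ((pseudoCoherent_tilde_iff _ m).2 h)⟩⟩

/-- base change of the module of a complex -/
theorem exists_pb_tilde_iso {A B : Type u} [CommRing A] [CommRing B] (γ : A →+* B) [Flat (sp γ)]
    (L : DRing.Cx A) :
    Nonempty ((PB (sp γ)).obj ((DCoh.tildeD (CommRingCat.of A)).obj (DRing.toD L)) ≅
      (DCoh.tildeD (CommRingCat.of B)).obj (DRing.toD ((DRingKP.bc γ).obj L))) := by
  let τ := QC.pullbackTildeIso (CommRingCat.ofHom γ)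
  let e1 : (PB (sp γ)).obj ((DCoh.tildeD (CommRingCat.of A)).obj (DRing.toD L)) ≅ DCoh.toD _
      (((Scheme.Modules.pullback (sp γ)).mapHomologicalComplex (ComplexShape.up ℤ)).obj
        ((tCx (R := CommRingCat.of A)).obj L)) :=
    (PB (sp γ)).mapIso (tildeToDIso (R := CommRingCat.of A) L) ≪≫
      (Scheme.Modules.pullback (sp γ)).mapDerivedCategoryFactors.app _
  let e2 : ((Scheme.Modules.pullback (sp γ)).mapHomologicalComplex (ComplexShape.up ℤ)).obj
      ((tCx (R := CommRingCat.of A)).obj L) ≅ (tCx (R := CommRingCat.of B)).obj ((DRingKP.bc γ).obj L) :=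
    HomologicalComplex.Hom.isoOfComponents (fun k => τ.app (L.X k))
      (fun j k _ => (τ.hom.naturality (L.d j k)).symm)
  exact ⟨e1 ≪≫ DerivedCategory.Q.mapIso e2 ≪≫ (tildeToDIso (R := CommRingCat.of B) _).symm⟩

/-- the test descends along an affine piece of a flat cover -/
theorem qa_of_piece {X' : Scheme.{u}} {p : X ⟶ S} [LocallyOfFiniteType p] (a : X' ⟶ X) [Flat a]
    [LocallyOfFinitePresentation a] {m : ℤ} {E : DCoh.D X} (hE : DCoh.IsQCohD E)
    (h : DerSch.IsPseudoCoherentRel (a ≫ p) m ((PB a).obj E)) {U : X.Opens} (hU : IsAffineOpen U)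
    {W : X'.Opens} (hW : IsAffineOpen W) (e : W ≤ a ⁻¹ᵁ U) (hff : (a.appLE U W e).hom.FaithfullyFlat)
    (hfp : (a.appLE U W e).hom.FinitePresentation) {V : S.Opens} (hV : IsAffineOpen V) : QA p m E U V := by
  intro hUV
  obtain ⟨n, φ, hφ⟩ := exists_chart hU hV hUV
  refine qa_of_qpc hU hUV hφ ?_ hUV
  obtain ⟨M, ⟨eM⟩⟩ := exists_tilde_rep ((RD hU.fromSpec).obj E) fun i =>
    QC.isQCoh_of_iso ((homologyDerIso (Scheme.Modules.restrictFunctor hU.fromSpec) i).app E).symm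
      (QC.isQCoh_restrict hU.fromSpec (hE i))
  let L := (DerivedCategory.Q : _ ⥤ DerivedCategory (ModuleCat.{u} Γ(X, U))).objPreimage M
  let eL : DRing.toD L ≅ M := DerivedCategory.Q.objObjPreimageIso M
  let eU : (RD hU.fromSpec).obj E ≅ (DCoh.tildeD (CommRingCat.of Γ(X, U))).obj (DRing.toD L) :=
    eM.symm ≪≫ (DCoh.tildeD (CommRingCat.of Γ(X, U))).mapIso eL.symm
  let γ := (a.appLE U W e).hom
  haveI : Flat (sp γ) := Flat.SpecMap_iff.2 (a.flat_appLE hU hW e)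
  have w : hW.fromSpec ≫ a = sp γ ≫ hU.fromSpec := (IsAffineOpen.SpecMap_appLE_fromSpec a hU hW e).symm
  obtain ⟨eB⟩ := exists_pb_tilde_iso γ L
  let eW : (RD hW.fromSpec).obj ((PB a).obj E) ≅
      (DCoh.tildeD (CommRingCat.of Γ(X', W))).obj (DRing.toD ((DRingKP.bc γ).obj L)) :=
    (pbRdIso hU.fromSpec hW.fromSpec (sp γ) w).app E ≪≫ (PB (sp γ)).mapIso eU ≪≫ eB
  have hWV : W ≤ (a ≫ p) ⁻¹ᵁ V := e.trans (a.preimage_mono hUV)
  haveI := h.1
  obtain ⟨k, ψ, hψ⟩ := exists_chart (f := a ≫ p) hW hV hWV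
  letI : Algebra Γ(X, U) Γ(X', W) := γ.toAlgebra
  letI : Algebra Γ(S, V) Γ(X, U) := (p.appLE V U hUV).hom.toAlgebra
  letI : Algebra Γ(S, V) Γ(X', W) := ((a ≫ p).appLE V W hWV).hom.toAlgebra
  haveI : IsScalarTower Γ(S, V) Γ(X, U) Γ(X', W) := IsScalarTower.of_algebraMap_eq' (by
    show ((a ≫ p).appLE V W hWV).hom = (a.appLE U W e).hom.comp (p.appLE V U hUV).hom
    rw [← CommRingCat.hom_comp, Scheme.Hom.appLE_comp_appLE])
  haveI : Algebra.FiniteType Γ(S, V) Γ(X, U) := LocallyOfFiniteType.finiteType_appLE p hV hU hUV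
  haveI : Module.FaithfullyFlat Γ(X, U) Γ(X', W) := hff
  haveI : Algebra.FinitePresentation Γ(X, U) Γ(X', W) := hfp
  let β : MvPolynomial (Fin k) Γ(S, V) →ₐ[Γ(S, V)] Γ(X', W) :=
    { ψ with commutes' := fun r => RingHom.congr_fun hψ.2 r }
  let α : MvPolynomial (Fin n) Γ(S, V) →ₐ[Γ(S, V)] Γ(X, U) :=
    { φ with commutes' := fun r => RingHom.congr_fun hφ.2 r }
  have h1 : DerCA.IsRelPseudoCoherent Γ(S, V) Γ(X', W) m (DRing.toD ((DRingKP.bc γ).obj L)) :=
    (RelPC.rel_iff β hψ.1 m _).2 ((qpc_tilde_iff eW hψ.1 m).1 (qpc_of_rel h hW hV hWV hψ))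
  exact (qpc_tilde_iff eU hφ.1 m).2
    ((RelPC.rel_iff α hφ.1 m _).1 (rel_of_fppf (S := Γ(X', W)) L m h1))

/-- **relative pseudo-coherence is fppf local on the source** -/
theorem rel_of_source_cover {p : X ⟶ S} [LocallyOfFiniteType p] {ι : Type u} (Xi : ι → Scheme.{u})
    (g : ∀ i, Xi i ⟶ X) [∀ i, Flat (g i)] [∀ i, LocallyOfFinitePresentation (g i)]
    (hcov : ∀ x : X, ∃ (i : ι) (y : Xi i), (g i).base y = x) {m : ℤ} {E : DCoh.D X} (hE : DCoh.IsQCohD E)
    (h : ∀ i, DerSch.IsPseudoCoherentRel (g i ≫ p) m ((PB (g i)).obj E)) :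
    DerSch.IsPseudoCoherentRel p m E := by
  refine ⟨inferInstance, Set.univ, by simpa using iSup_affineOpens_eq_top S, fun V _ =>
    ⟨{U | (U : X.Opens) ≤ p ⁻¹ᵁ (V : S.Opens) ∧ QA p m E U V}, ?_, fun U hU hle => hU.2 hle⟩⟩
  refine le_antisymm (iSup₂_le fun U hU => hU.1) fun x hx => ?_
  obtain ⟨i, y, hy⟩ := hcov x
  obtain ⟨U, W, e, hU, hW, hxU, hUO, hff, hfp⟩ := exists_piece_at (g i) hx ⟨y, hy⟩
  exact Opens.mem_iSup.2 ⟨⟨U, hU⟩, Opens.mem_iSup.2
    ⟨⟨hUO, qa_of_piece (g i) hE (h i) hU hW e hff hfp V.2⟩, hxU⟩⟩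

/-- pullback along a flat morphism of finite presentation -/
theorem rel_pullback_flat {X' : Scheme.{u}} {p : X ⟶ S} [LocallyOfFiniteType p] (a : X' ⟶ X) [Flat a]
    [LocallyOfFinitePresentation a] [DCoh.HasLpull a] {m : ℤ} {E : DCoh.D X}
    (h : DerSch.IsPseudoCoherentRel p m E) :
    DerSch.IsPseudoCoherentRel (a ≫ p) m ((DCoh.Lpull a).obj E) :=
  RelPCLpull.rel_lpull (isNPseudoCoherent_of_flat a) h

/-- the predicate respects isomorphisms -/
theorem rel_iso {p : X ⟶ S} [LocallyOfFiniteType p] {m : ℤ} {E E' : DCoh.D X} (e : E ≅ E')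
    (h : DerSch.IsPseudoCoherentRel p m E) : DerSch.IsPseudoCoherentRel p m E' :=
  rel_of_qpc fun _ hU _ hV hUV _ _ hφ => qpc_iso e (qpc_of_rel h hU hV hUV hφ)

end Groth.Agent.RelPCFppf
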