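import Groth.Agent.RelPCFppf.Basic

/-!
Relative pseudo-coherence of complexes descends along faithfully flat maps of finite presentation.
-/

set_option autoImplicit false
set_option linter.style.haveILetI false
set_option backward.isDefEq.respectTransparency false
universe u

namespace Groth.Agent.RelPCFppf

open CategoryTheory Limits DerivedCategory
open Groth.Agent.DRingKP Groth.Agent.RelPC Groth.Agent.PCMor
open scoped TensorProduct

attribute [local instance] HasDerivedCategory.standard

/-- near a point of the image, a quasi-finite flat map has a finite faithfully flat piece over a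
standard etale neighbourhood -/
theorem exists_piece {B S : Type u} [CommRing B] [CommRing S] [Algebra B S]
    [Algebra.FinitePresentation B S] [Module.Flat B S] [Algebra.QuasiFinite B S]
    (q : Ideal B) [q.IsPrime] (hq : (⟨q, ‹_›⟩ : PrimeSpectrum B) ∈ Set.range (PrimeSpectrum.comap (algebraMap B S))) :
    ∃ (A₃ : Type u) (_ : CommRing A₃) (_ : Algebra B A₃) (C₃ : Type u) (_ : CommRing C₃) (_ : Algebra A₃ C₃)
      (χ : S →+* C₃),
      Algebra.IsStandardEtale B A₃ ∧
      (⟨q, ‹_›⟩ : PrimeSpectrum B) ∈ Set.range (PrimeSpectrum.comap (algebraMap B A₃)) ∧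
      Module.Finite A₃ C₃ ∧ Module.Projective A₃ C₃ ∧ Module.FaithfullyFlat A₃ C₃ ∧
      χ.comp (algebraMap B S) = (algebraMap A₃ C₃).comp (algebraMap B A₃) := by
  obtain ⟨⟨Q', hQ'⟩, hQq⟩ := hq
  have hQq' : Q'.comap (algebraMap B S) = q := congrArg PrimeSpectrum.asIdeal hQq
  obtain ⟨A', _, _, _, P, hP, e, -, P', hP', hP'o, hP'q, heP', hfin, -, -⟩ :=
    LqfRep.exists_etale_piece (A := B) (B := S) Q'
  let C := Localization.Away e
  haveI : Module.Finite A' C := hfin
  haveI : Module.Flat (A' ⊗[B] S) C := IsLocalization.flat C (Submonoid.powers e)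
  haveI : Module.Flat A' C := Module.Flat.trans A' (A' ⊗[B] S) C
  haveI : Algebra.FinitePresentation (A' ⊗[B] S) C := IsLocalization.Away.finitePresentation e
  haveI : Algebra.FinitePresentation A' C := Algebra.FinitePresentation.trans A' (A' ⊗[B] S) C
  have hPB : P.comap (algebraMap B A') = q := by
    rw [← hQq', ← hP'q, Ideal.comap_comap, hP'o.over, Ideal.under_def, Ideal.comap_comap]
    congr 1
    refine RingHom.ext fun r => ?_
    change algebraMap A' (A' ⊗[B] S) (algebraMap B A' r) = Algebra.TensorProduct.includeRight (algebraMap B S r)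
    rw [AlgHom.commutes, ← IsScalarTower.algebraMap_apply]
  obtain ⟨b₀, hb₀⟩ : (⟨P', hP'⟩ : PrimeSpectrum (A' ⊗[B] S)) ∈
      Set.range (PrimeSpectrum.comap (algebraMap (A' ⊗[B] S) C)) := by
    rw [PrimeSpectrum.localization_away_comap_range C e]
    exact heP'
  have hb₀P : PrimeSpectrum.comap (algebraMap A' C) b₀ = ⟨P, hP⟩ := by
    rw [IsScalarTower.algebraMap_eq A' (A' ⊗[B] S) C, PrimeSpectrum.comap_comp_apply, hb₀]
    exact PrimeSpectrum.ext hP'o.over.symm
  have hopen : IsOpen (Set.range (PrimeSpectrum.comap (algebraMap A' C))) :=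
    PrimeSpectrum.isOpenMap_comap_of_hasGoingDown_of_finitePresentation.isOpen_range
  obtain ⟨_, ⟨_, ⟨a, rfl⟩, rfl⟩, haP, haU⟩ :=
    PrimeSpectrum.isBasis_basic_opens.exists_subset_of_mem_open (show (⟨P, hP⟩ : PrimeSpectrum A') ∈ Set.range _ from ⟨b₀, hb₀P⟩) hopen
  let A₂ := Localization.Away a
  haveI : Algebra.Etale A' A₂ := Algebra.Etale.of_isLocalizationAway a
  haveI : Algebra.Etale B A₂ := Algebra.Etale.comp B A' A₂
  obtain ⟨P₂, hP₂⟩ : (⟨P, hP⟩ : PrimeSpectrum A') ∈ Set.range (PrimeSpectrum.comap (algebraMap A' A₂)) := by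
    rw [PrimeSpectrum.localization_away_comap_range A₂ a]
    exact haP
  obtain ⟨s, hsP, hstd⟩ := Algebra.IsEtaleAt.exists_isStandardEtale (R := B) P₂.asIdeal
  let A₃ := Localization.Away s
  let C₂ := A₂ ⊗[A'] C
  haveI : Module.FaithfullyFlat A₂ C₂ := by
    refine Module.FaithfullyFlat.of_comap_surjective fun p => ?_
    obtain ⟨r, hr⟩ : PrimeSpectrum.comap (algebraMap A' A₂) p ∈ Set.range (PrimeSpectrum.comap (algebraMap A' C)) := by
      apply haU
      have : PrimeSpectrum.comap (algebraMap A' A₂) p ∈ Set.range (PrimeSpectrum.comap (algebraMap A' A₂)) := ⟨p, rfl⟩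
      rw [PrimeSpectrum.localization_away_comap_range A₂ a] at this
      exact this
    have har : a ∉ r.asIdeal.comap (algebraMap A' C) := fun ha => by
      have h1 : PrimeSpectrum.comap (algebraMap A' A₂) p ∈ Set.range (PrimeSpectrum.comap (algebraMap A' A₂)) := ⟨p, rfl⟩
      rw [PrimeSpectrum.localization_away_comap_range A₂ a, ← hr] at h1
      exact h1 ha
    let K := r.asIdeal.ResidueField
    have hu : IsUnit (algebraMap A' K a) := by
      rw [isUnit_iff_ne_zero, IsScalarTower.algebraMap_apply A' C K, Ne, ← RingHom.mem_ker,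
        Ideal.ker_algebraMap_residueField]
      exact har
    let α : A₂ →ₐ[A'] K := IsLocalization.liftAlgHom (M := Submonoid.powers a) (f := Algebra.ofId A' K) (by
      rintro ⟨_, k, rfl⟩
      show IsUnit (algebraMap A' K (a ^ k))
      rw [map_pow]
      exact hu.pow k)
    let β : C₂ →ₐ[A'] K := Algebra.TensorProduct.lift α (IsScalarTower.toAlgHom A' C K) fun _ _ => Commute.all _ _
    refine ⟨⟨RingHom.ker β.toRingHom, RingHom.ker_isPrime _⟩, PrimeSpectrum.localization_comap_injective A₂
      (Submonoid.powers a) (PrimeSpectrum.ext ?_)⟩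
    show Ideal.comap (algebraMap A' A₂) (Ideal.comap (algebraMap A₂ C₂) (RingHom.ker β.toRingHom)) = _
    rw [RingHom.comap_ker, RingHom.comap_ker]
    have hβ : (β.toRingHom.comp (algebraMap A₂ C₂)).comp (algebraMap A' A₂) =
        (algebraMap C K).comp (algebraMap A' C) := RingHom.ext fun x => by
      show β (algebraMap A₂ C₂ (algebraMap A' A₂ x)) = _
      rw [← IsScalarTower.algebraMap_apply, AlgHom.commutes, IsScalarTower.algebraMap_apply A' C K]
      rfl
    rw [hβ, ← RingHom.comap_ker, Ideal.ker_algebraMap_residueField]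
    exact congrArg PrimeSpectrum.asIdeal hr
  haveI : Module.Projective A₃ (A₃ ⊗[A₂] C₂) := by
    haveI : Module.FinitePresentation A' C := Module.FinitePresentation.of_finite_of_finitePresentation A' C
    haveI : Module.Projective A' C := Module.Flat.projective_of_finitePresentation
    infer_instance
  refine ⟨A₃, inferInstance, inferInstance, A₃ ⊗[A₂] C₂, inferInstance, inferInstance,
    ((Algebra.TensorProduct.includeRight : C₂ →ₐ[A₂] A₃ ⊗[A₂] C₂).toRingHom.comp
      ((Algebra.TensorProduct.includeRight : C →ₐ[A'] C₂).toRingHom.comp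
        ((algebraMap (A' ⊗[B] S) C).comp (Algebra.TensorProduct.includeRight : S →ₐ[B] A' ⊗[B] S).toRingHom))),
    hstd, ?_, inferInstance, inferInstance, inferInstance, RingHom.ext fun b => ?_⟩
  · obtain ⟨P₃, hP₃⟩ : P₂ ∈ Set.range (PrimeSpectrum.comap (algebraMap A₂ A₃)) := by
      rw [PrimeSpectrum.localization_away_comap_range A₃ s]
      exact hsP
    refine ⟨P₃, ?_⟩
    rw [IsScalarTower.algebraMap_eq B A₂ A₃, PrimeSpectrum.comap_comp_apply, hP₃,
      IsScalarTower.algebraMap_eq B A' A₂, PrimeSpectrum.comap_comp_apply, hP₂]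
    exact PrimeSpectrum.ext hPB
  · show (Algebra.TensorProduct.includeRight : C₂ →ₐ[A₂] A₃ ⊗[A₂] C₂)
      ((Algebra.TensorProduct.includeRight : C →ₐ[A'] C₂)
        (algebraMap (A' ⊗[B] S) C ((Algebra.TensorProduct.includeRight : S →ₐ[B] A' ⊗[B] S) (algebraMap B S b)))) = _
    rw [RingHom.comp_apply]
    rw [AlgHom.commutes, IsScalarTower.algebraMap_apply B A' (A' ⊗[B] S),
      ← IsScalarTower.algebraMap_apply A' (A' ⊗[B] S) C, AlgHom.commutes,
      IsScalarTower.algebraMap_apply A' A₂ C₂, AlgHom.commutes, IsScalarTower.algebraMap_apply B A₂ A₃,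
      ← IsScalarTower.algebraMap_apply A₂ A₃, IsScalarTower.algebraMap_apply B A' A₂]


variable {A B : Type u} [CommRing A] [CommRing B] [Algebra A B] [Algebra.FiniteType A B]

/-- from a flat cover to a standard etale neighbourhood -/
theorem rel_step {S A₃ C₃ : Type u} [CommRing S] [CommRing A₃] [CommRing C₃] [Algebra B S] [Algebra A S]
    [IsScalarTower A B S] [Module.Flat B S] [Algebra.FinitePresentation B S] [Algebra B A₃] [Algebra A A₃]
    [IsScalarTower A B A₃] [Module.Flat B A₃] [Algebra.FinitePresentation B A₃] [Algebra A₃ C₃]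
    [Module.Finite A₃ C₃] [Module.Projective A₃ C₃] [Module.FaithfullyFlat A₃ C₃]
    (L : DRing.Cx B) {b : ℤ} (hb : DRing.VanishesAbove L b) (hL : ∀ i, CategoryTheory.Projective (L.X i)) (m : ℤ)
    (h : DerCA.IsRelPseudoCoherent A S m (DRing.toD ((bc (algebraMap B S)).obj L)))
    (χ : S →+* C₃) (hv : χ.comp (algebraMap B S) = (algebraMap A₃ C₃).comp (algebraMap B A₃)) :
    DerCA.IsRelPseudoCoherent A A₃ m (DRing.toD ((bc (algebraMap B A₃)).obj L)) := by
  letI := χ.toAlgebra
  letI : Algebra A C₃ := ((algebraMap A₃ C₃).comp (algebraMap A A₃)).toAlgebra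
  haveI : IsScalarTower A A₃ C₃ := IsScalarTower.of_algebraMap_eq' rfl
  haveI : IsScalarTower A S C₃ := IsScalarTower.of_algebraMap_eq' (by
    show (algebraMap A₃ C₃).comp (algebraMap A A₃) = χ.comp (algebraMap A S)
    rw [IsScalarTower.algebraMap_eq A B A₃, IsScalarTower.algebraMap_eq A B S, ← RingHom.comp_assoc,
      ← RingHom.comp_assoc, hv])
  haveI : Algebra.FiniteType A A₃ := Algebra.FiniteType.trans (S := B) inferInstance inferInstance
  haveI : Module.FinitePresentation A₃ C₃ := Module.finitePresentation_of_projective _ _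
  have hg : PC (algebraMap B S) := pc_of_flat_fp (RingHom.flat_algebraMap_iff.2 inferInstance)
    (RingHom.finitePresentation_algebraMap.2 inferInstance)
  have hvpc : PC ((algebraMap A₃ C₃).comp (algebraMap B A₃)) := pc_of_flat_fp
    (RingHom.Flat.comp (RingHom.flat_algebraMap_iff.2 inferInstance) (RingHom.flat_algebraMap_iff.2 inferInstance))
    ((RingHom.finitePresentation_algebraMap.2 inferInstance).comp
      (RingHom.finitePresentation_algebraMap.2 inferInstance))
  have hχ : PC (algebraMap S C₃) := hg.of_comp (by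
    show PC (χ.comp (algebraMap B S))
    rw [hv]; exact hvpc)
  have hb' : DRing.VanishesAbove ((bc (algebraMap B S)).obj L) b := fun i hi =>
    (ModuleCat.extendScalars.{u, u, u} (algebraMap B S)).map_isZero (hb i hi)
  have h1 := rel_bc hχ _ hb' (fun i => (ModuleCat.extendRestrictScalarsAdj.{u} (algebraMap B S)).map_projective
    _ (hL i)) m h
  obtain ⟨r, hr⟩ := exists_retraction A₃ C₃
  exact rel_of_finite_retract r hr _ m (rel_of_iso (DerivedCategory.Q.mapIso
    (bcCompIso (algebraMap B S) (algebraMap S C₃) _ rfl L ≪≫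
      (bcCompIso (algebraMap B A₃) (algebraMap A₃ C₃) ((algebraMap S C₃).comp (algebraMap B S)) hv.symm L).symm)) h1)

/-- a standard etale algebra over a quotient is a base change -/
theorem isPushout_of_equiv {P P' A₃ : Type u} [CommRing P] [CommRing P'] [CommRing A₃] [Algebra P P'] [Algebra P B]
    [Algebra P A₃] [Algebra P' A₃] [Algebra B A₃] [IsScalarTower P P' A₃] [IsScalarTower P B A₃]
    (hs : Function.Surjective (algebraMap P B)) (hρ : Function.Surjective (algebraMap P' A₃))
    (e : A₃ ≃ₗ[P'] P' ⊗[P] B) : Algebra.IsPushout P P' B A₃ := by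
  let Ψ : P' ⊗[P] B →ₐ[P'] A₃ :=
    Algebra.TensorProduct.lift (Algebra.ofId P' A₃) (IsScalarTower.toAlgHom P B A₃) fun _ _ => Commute.all _ _
  have hΨ : Function.Surjective Ψ := fun a => by
    obtain ⟨p, rfl⟩ := hρ a
    exact ⟨p ⊗ₜ 1, by simp [Ψ]⟩
  haveI : Module.Finite P B := Module.Finite.of_surjective (Algebra.linearMap P B) hs
  haveI : Module.Finite P' (P' ⊗[P] B) := Module.Finite.base_change P P' B
  have hinj : Function.Injective (e.toLinearMap ∘ₗ Ψ.toLinearMap) :=
    OrzechProperty.injective_of_surjective_endomorphism _ (e.surjective.comp hΨ)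
  rw [LinearMap.coe_comp] at hinj
  let E : P' ⊗[P] B ≃ₐ[P'] A₃ := AlgEquiv.ofBijective Ψ ⟨hinj.of_comp, hΨ⟩
  refine ⟨IsBaseChange.of_equiv E.toLinearEquiv fun x => ?_⟩
  show Ψ (1 ⊗ₜ x) = algebraMap B A₃ x
  simp [Ψ]

/-- descent for complexes with projective terms -/
theorem rel_of_fppf_proj {S : Type u} [CommRing S] [Algebra B S] [Algebra A S] [IsScalarTower A B S]
    [Module.FaithfullyFlat B S] [Algebra.FinitePresentation B S]
    (L : DRing.Cx B) {b : ℤ} (hb : DRing.VanishesAbove L b) (hL : ∀ i, CategoryTheory.Projective (L.X i)) (m : ℤ)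
    (h : DerCA.IsRelPseudoCoherent A S m (DRing.toD ((bc (algebraMap B S)).obj L))) :
    DerCA.IsRelPseudoCoherent A B m (DRing.toD L) := by
  classical
  obtain ⟨n, α, hα⟩ := Algebra.FiniteType.iff_quotient_mvPolynomial''.1 (inferInstance : Algebra.FiniteType A B)
  obtain ⟨S', _, _, _, _, _, _, ⟨σ⟩⟩ := QFDom.exists_dominating B S
  letI : Algebra S S' := σ.toRingHom.toAlgebra
  haveI : IsScalarTower B S S' := IsScalarTower.of_algebraMap_eq' (RingHom.ext fun x => (σ.commutes x).symm)
  letI : Algebra A S' := ((algebraMap B S').comp (algebraMap A B)).toAlgebra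
  haveI : IsScalarTower A B S' := IsScalarTower.of_algebraMap_eq' rfl
  haveI : IsScalarTower A S S' := IsScalarTower.of_algebraMap_eq' (by
    rw [IsScalarTower.algebraMap_eq A B S, ← RingHom.comp_assoc, ← IsScalarTower.algebraMap_eq B S S',
      ← IsScalarTower.algebraMap_eq A B S'])
  have hg : PC (algebraMap B S) := pc_of_flat_fp (RingHom.flat_algebraMap_iff.2 inferInstance)
    (RingHom.finitePresentation_algebraMap.2 inferInstance)
  have hσ : PC (algebraMap S S') := hg.of_comp (by
    rw [← IsScalarTower.algebraMap_eq]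
    exact pc_of_flat_fp (RingHom.flat_algebraMap_iff.2 inferInstance)
      (RingHom.finitePresentation_algebraMap.2 inferInstance))
  have hb' : DRing.VanishesAbove ((bc (algebraMap B S)).obj L) b := fun i hi =>
    (ModuleCat.extendScalars.{u, u, u} (algebraMap B S)).map_isZero (hb i hi)
  have hS' : DerCA.IsRelPseudoCoherent A S' m (DRing.toD ((bc (algebraMap B S')).obj L)) :=
    rel_of_iso (DerivedCategory.Q.mapIso (bcCompIso (algebraMap B S) (algebraMap S S') (algebraMap B S')
      (IsScalarTower.algebraMap_eq B S S').symm L))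
      (rel_bc hσ _ hb' (fun i => (ModuleCat.extendRestrictScalarsAdj.{u} (algebraMap B S)).map_projective
        _ (hL i)) m h)
  let P := MvPolynomial (Fin n) A
  letI : Algebra P B := α.toRingHom.toAlgebra
  haveI : IsScalarTower A P B := IsScalarTower.of_algebraMap_eq fun r => (α.commutes r).symm
  let F := ModuleCat.restrictScalars.{u} (algebraMap P B)
  let L₀ : DRing.Cx P := (F.mapHomologicalComplex (ComplexShape.up ℤ)).obj L
  have key : ∀ Q : PrimeSpectrum P, ∃ (P' : Type u) (_ : CommRing P')
      (_ : Algebra P P'), Module.Flat P P' ∧ Algebra.FinitePresentation P P' ∧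
      Q ∈ Set.range (PrimeSpectrum.comap (algebraMap P P')) ∧
      DRing.IsPseudoCoherent P' m (DRing.toD ((bc (algebraMap P P')).obj L₀)) := by
    intro Q
    by_cases hQ : RingHom.ker α.toRingHom ≤ Q.asIdeal
    · let q := Q.asIdeal.map α.toRingHom
      haveI : q.IsPrime := Ideal.map_isPrime_of_surjective hα hQ
      have hqQ : q.comap α.toRingHom = Q.asIdeal := by
        rw [Ideal.comap_map_of_surjective α.toRingHom hα, sup_eq_left]
        exact hQ
      obtain ⟨A₃, _, _, C₃, _, _, χ, hstd, ⟨p₃, hp₃⟩, _, _, _, hv⟩ :=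
        exists_piece (S := S') q (PrimeSpectrum.comap_surjective_of_faithfullyFlat _)
      letI : Algebra A A₃ := ((algebraMap B A₃).comp (algebraMap A B)).toAlgebra
      haveI : IsScalarTower A B A₃ := IsScalarTower.of_algebraMap_eq' rfl
      have h3 := rel_step L hb hL m hS' χ hv
      obtain ⟨P', _, _, ρ, hfl, hfpP, hρs, hρc, hiso⟩ := exists_lift_standard (P := P) (B := B) hα A₃
      refine ⟨P', inferInstance, inferInstance, hfl, hfpP, ⟨PrimeSpectrum.comap ρ p₃, ?_⟩, ?_⟩
      · rw [← PrimeSpectrum.comap_comp_apply, hρc, PrimeSpectrum.comap_comp_apply, hp₃]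
        exact PrimeSpectrum.ext hqQ
      · letI := ρ.toAlgebra
        letI : Algebra P A₃ := ((algebraMap B A₃).comp (algebraMap P B)).toAlgebra
        haveI : IsScalarTower P B A₃ := IsScalarTower.of_algebraMap_eq' rfl
        haveI : IsScalarTower P P' A₃ := IsScalarTower.of_algebraMap_eq' hρc.symm
        haveI := isPushout_of_equiv (B := B) hα hρs hiso.some
        obtain ⟨k, β, hβ⟩ := Algebra.FiniteType.iff_quotient_mvPolynomial''.1
          (inferInstance : Algebra.FiniteType P P')
        let ψ : MvPolynomial (Fin k) P →ₐ[A] A₃ :=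
          { ρ.comp β.toRingHom with
            commutes' := fun r => by
              show ρ (β (algebraMap A (MvPolynomial (Fin k) P) r)) = algebraMap A A₃ r
              rw [MvPolynomial.algebraMap_apply, ← MvPolynomial.algebraMap_eq, AlgHom.commutes]
              show (ρ.comp (algebraMap P P')) (algebraMap A P r) = algebraMap A A₃ r
              rw [hρc, RingHom.comp_apply, ← IsScalarTower.algebraMap_apply A P B]
              rfl }
        have hψ : Function.Surjective ψ := hρs.comp hβ
        have h4 := ((pcHom_of_flat_fp β hβ).pc_comp_iff ρ m _).1 ((rel_iff_iter ψ hψ m _).1 h3)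
        exact pc_of_iso ((ModuleCat.restrictScalars.{u} (algebraMap P' A₃)).mapDerivedCategoryFactors.app _ ≪≫
          DerivedCategory.Q.mapIso (bcSquareCxIso (P := P) (Q := P') (A := B) (B := A₃) L).symm) h4
    · obtain ⟨t, htk, ht⟩ := SetLike.not_le_iff_exists.1 hQ
      refine ⟨Localization.Away t, inferInstance, inferInstance, IsLocalization.flat _ (Submonoid.powers t),
        IsLocalization.Away.finitePresentation t, ?_, ?_⟩
      · rw [PrimeSpectrum.localization_away_comap_range (Localization.Away t) t]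
        exact ht
      · refine pc_of_isAbove fun i _ => IsZero.of_iso ?_ ((homologyFunctorFactors _ i).app _)
        refine ShortComplex.isZero_homology_of_isZero_X₂ _ ?_
        haveI : Subsingleton (Localization.Away t ⊗[P] (F.obj (L.X i))) := by
          refine subsingleton_of_forall_eq 0 fun z => ?_
          induction z using TensorProduct.induction_on with
          | zero => rfl
          | add x y hx hy => rw [hx, hy, add_zero]
          | tmul x y =>
            have h0 : t • y = 0 := by
              change (α t) • (show L.X i from y) = 0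
              rw [show α t = 0 from RingHom.mem_ker.1 htk, zero_smul]
            have hu := IsLocalization.Away.algebraMap_isUnit (S := Localization.Away t) t
            rw [← hu.smul_eq_zero, algebraMap_smul, ← TensorProduct.tmul_smul, h0, TensorProduct.tmul_zero]
        exact (ModuleCat.isZero_of_subsingleton (ModuleCat.of (Localization.Away t)
          (Localization.Away t ⊗[P] (F.obj (L.X i))))).of_iso
          (extendTensorIso (A := P) (B := Localization.Away t) (F.obj (L.X i)))
  choose P' iC iA hfl hfpP hmem hpc using key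
  have hopen : ∀ Q, IsOpen (Set.range (PrimeSpectrum.comap (algebraMap P (P' Q)))) := fun Q =>
    (PrimeSpectrum.isOpenMap_comap_of_hasGoingDown_of_finitePresentation (R := P) (S := P' Q)).isOpen_range
  obtain ⟨I, hI⟩ := isCompact_univ.elim_finite_subcover _ hopen (fun Q _ => Set.mem_iUnion.2 ⟨Q, hmem Q⟩)
  refine (rel_iff α hα m _).2 (pc_of_iso (F.mapDerivedCategoryFactors.app L).symm
    (pc_of_bc (B := fun i : I => P' i.1) (detects_of_cover _ fun Q => ?_) m L₀ fun i => hpc i.1))
  obtain ⟨i, hi, hQi⟩ := Set.mem_iUnion₂.1 (hI (Set.mem_univ Q))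
  exact ⟨⟨i, hi⟩, hQi⟩

/-- **relative pseudo-coherence descends along faithfully flat maps of finite presentation** -/
theorem rel_of_fppf {S : Type u} [CommRing S] [Algebra B S] [Algebra A S] [IsScalarTower A B S]
    [Module.FaithfullyFlat B S] [Algebra.FinitePresentation B S] (L : DRing.Cx B) (m : ℤ)
    (h : DerCA.IsRelPseudoCoherent A S m (DRing.toD ((bc (algebraMap B S)).obj L))) :
    DerCA.IsRelPseudoCoherent A B m (DRing.toD L) := by
  obtain ⟨n, θ, hθ, hp⟩ := id h
  obtain ⟨c, hc⟩ := pc_bounded hp
  have hab : IsAbove c (DRing.toD L) := isAbove_of_bc (B := fun _ : Unit => S) (detects_of_faithfullyFlat S) L c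
    fun _ => (isAbove_res (θ : MvPolynomial (Fin n) A →+* S)).1 hc
  obtain ⟨L', b, hb, hL', ⟨e⟩⟩ := exists_proj_rep_le (DRing.toD L) ⟨c, hab⟩
  exact rel_of_iso e (rel_of_fppf_proj L' hb hL' m
    (rel_of_iso (bcDIso (algebraMap B S) (RingHom.flat_algebraMap_iff.2 inferInstance) e).symm h))

end Groth.Agent.RelPCFppf
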